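import Cfsg.Agent.Spor.Fi56.D0

set_option autoImplicit false
set_option maxRecDepth 100000000
set_option Elab.async false

namespace Cfsg.Agent.Spor.Fi56

theorem ok0 : Net.okb 6 n0 = true := by decide +kernel

theorem ok1 : Net.okb 6 n1 = true := by decide +kernel

theorem ok2 : Net.okb 6 n2 = true := by decide +kernel

theorem ok3 : Net.okb 6 n3 = true := by decide +kernel

theorem ok4 : Net.okb 6 n4 = true := by decide +kernel

theorem ok5 : Net.okb 6 n5 = true := by decide +kernel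

theorem ok6 : Net.okb 6 n6 = true := by decide +kernel

theorem rel0 : T.rel 6 [1, 1] 0 6 = true := by decide +kernel

theorem rel1 : T.rel 6 [2, 2] 0 6 = true := by decide +kernel

theorem rel2 : T.rel 6 [3, 3] 0 6 = true := by decide +kernel

theorem rel3 : T.rel 6 [4, 4] 0 6 = true := by decide +kernel

theorem rel4 : T.rel 6 [5, 5] 0 6 = true := by decide +kernel

theorem rel5 : T.rel 6 [6, 6] 0 6 = true := by decide +kernel

theorem rel6 : T.rel 6 [7, 7] 0 6 = true := by decide +kernel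

theorem rel7 : T.rel 6 [2, 1, 2, 1, 2, 1] 0 6 = true := by decide +kernel

theorem rel8 : T.rel 6 [3, 1, 3, 1] 0 6 = true := by decide +kernel

theorem rel9 : T.rel 6 [4, 1, 4, 1] 0 6 = true := by decide +kernel

theorem rel10 : T.rel 6 [5, 1, 5, 1] 0 6 = true := by decide +kernel

theorem rel11 : T.rel 6 [6, 1, 6, 1] 0 6 = true := by decide +kernel

theorem rel12 : T.rel 6 [7, 1, 7, 1] 0 6 = true := by decide +kernel

theorem rel13 : T.rel 6 [3, 2, 3, 2, 3, 2] 0 6 = true := by decide +kernel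

theorem rel14 : T.rel 6 [4, 2, 4, 2] 0 6 = true := by decide +kernel

theorem rel15 : T.rel 6 [5, 2, 5, 2] 0 6 = true := by decide +kernel

theorem rel16 : T.rel 6 [6, 2, 6, 2] 0 6 = true := by decide +kernel

theorem rel17 : T.rel 6 [7, 2, 7, 2] 0 6 = true := by decide +kernel

theorem rel18 : T.rel 6 [4, 3, 4, 3, 4, 3] 0 6 = true := by decide +kernel

theorem rel19 : T.rel 6 [5, 3, 5, 3] 0 6 = true := by decide +kernel

theorem rel20 : T.rel 6 [6, 3, 6, 3] 0 6 = true := by decide +kernel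

theorem rel21 : T.rel 6 [7, 3, 7, 3, 7, 3] 0 6 = true := by decide +kernel

theorem rel22 : T.rel 6 [5, 4, 5, 4, 5, 4] 0 6 = true := by decide +kernel

theorem rel23 : T.rel 6 [6, 4, 6, 4] 0 6 = true := by decide +kernel

theorem rel24 : T.rel 6 [7, 4, 7, 4] 0 6 = true := by decide +kernel

theorem rel25 : T.rel 6 [6, 5, 6, 5, 6, 5] 0 6 = true := by decide +kernel

theorem rel26 : T.rel 6 [7, 5, 7, 5] 0 6 = true := by decide +kernel

theorem rel27 : T.rel 6 [7, 6, 7, 6] 0 6 = true := by decide +kernel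

theorem hcov : T.treeCov (ones 56) L 1 = true := by decide +kernel

theorem hg : lall (fun z => band (memL L z) (band (sub (ones 56) (T.let z).cl) (T.closed (ones 56) z))) gs = true := by decide +kernel

theorem rot1_1 : T.rot 1 [1] (sel (ones 56) ip1 1) = true := by decide +kernel

theorem rot1_1r : band (Rule.ok (2 * 7) EX RL ⟨1 :: [1], [], 21, false⟩) (lall (memL L) [1]) = true := by decide +kernel

theorem rot1_2 : T.rot 1 [3, 1, 3] (sel (ones 56) ip1 2) = true := by decide +kernel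

theorem rot1_2r : band (Rule.ok (2 * 7) EX RL ⟨1 :: [3, 1, 3], [], 1, false⟩) (lall (memL L) [3, 1, 3]) = true := by decide +kernel

theorem rot1_3 : T.rot 1 [4, 1, 4] (sel (ones 56) ip1 3) = true := by decide +kernel

theorem rot1_3r : band (Rule.ok (2 * 7) EX RL ⟨1 :: [4, 1, 4], [], 2, false⟩) (lall (memL L) [4, 1, 4]) = true := by decide +kernel

theorem rot1_4 : T.rot 1 [5, 1, 5] (sel (ones 56) ip1 4) = true := by decide +kernel

theorem rot1_4r : band (Rule.ok (2 * 7) EX RL ⟨1 :: [5, 1, 5], [], 3, false⟩) (lall (memL L) [5, 1, 5]) = true := by decide +kernel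

theorem rot1_5 : T.rot 1 [6, 1, 6] (sel (ones 56) ip1 5) = true := by decide +kernel

theorem rot1_5r : band (Rule.ok (2 * 7) EX RL ⟨1 :: [6, 1, 6], [], 4, false⟩) (lall (memL L) [6, 1, 6]) = true := by decide +kernel

theorem rot1_6 : T.rot 1 [7, 1, 7] (sel (ones 56) ip1 6) = true := by decide +kernel

theorem rot1_6r : band (Rule.ok (2 * 7) EX RL ⟨1 :: [7, 1, 7], [], 5, false⟩) (lall (memL L) [7, 1, 7]) = true := by decide +kernel

theorem rot1_7 : T.rot 1 [2, 1, 2, 1, 2] (sel (ones 56) ip1 7) = true := by decide +kernel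

theorem rot1_7r : band (Rule.ok (2 * 7) EX RL ⟨1 :: [2, 1, 2, 1, 2], [], 0, false⟩) (lall (memL L) [2, 1, 2, 1, 2]) = true := by decide +kernel

theorem cov1 : T.cover 1 [(sel (ones 56) ip1 1), (sel (ones 56) ip1 2), (sel (ones 56) ip1 3), (sel (ones 56) ip1 4), (sel (ones 56) ip1 5), (sel (ones 56) ip1 6), (sel (ones 56) ip1 7), 1] = true := by decide +kernel

theorem tl1 : T.treeLt 6 1 = true := by decide +kernel

theorem rot2_1 : T.rot 2 [2] (sel (ones 56) ip2 1) = true := by decide +kernel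

theorem rot2_1r : band (Rule.ok (2 * 7) EX RL ⟨2 :: [2], [], 21, false⟩) (lall (memL L) [2]) = true := by decide +kernel

theorem rot2_2 : T.rot 2 [4, 2, 4] (sel (ones 56) ip2 2) = true := by decide +kernel

theorem rot2_2r : band (Rule.ok (2 * 7) EX RL ⟨2 :: [4, 2, 4], [], 7, false⟩) (lall (memL L) [4, 2, 4]) = true := by decide +kernel

theorem rot2_3 : T.rot 2 [5, 2, 5] (sel (ones 56) ip2 3) = true := by decide +kernel

theorem rot2_3r : band (Rule.ok (2 * 7) EX RL ⟨2 :: [5, 2, 5], [], 8, false⟩) (lall (memL L) [5, 2, 5]) = true := by decide +kernel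

theorem rot2_4 : T.rot 2 [6, 2, 6] (sel (ones 56) ip2 4) = true := by decide +kernel

theorem rot2_4r : band (Rule.ok (2 * 7) EX RL ⟨2 :: [6, 2, 6], [], 9, false⟩) (lall (memL L) [6, 2, 6]) = true := by decide +kernel

theorem rot2_5 : T.rot 2 [7, 2, 7] (sel (ones 56) ip2 5) = true := by decide +kernel

theorem rot2_5r : band (Rule.ok (2 * 7) EX RL ⟨2 :: [7, 2, 7], [], 10, false⟩) (lall (memL L) [7, 2, 7]) = true := by decide +kernel

theorem rot2_6 : T.rot 2 [1, 2, 1, 2, 1] (sel (ones 56) ip2 6) = true := by decide +kernel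

theorem rot2_6r : band (Rule.ok (2 * 7) EX RL ⟨2 :: [1, 2, 1, 2, 1], [], 0, true⟩) (lall (memL L) [1, 2, 1, 2, 1]) = true := by decide +kernel

theorem rot2_7 : T.rot 2 [3, 2, 3, 2, 3] (sel (ones 56) ip2 7) = true := by decide +kernel

theorem rot2_7r : band (Rule.ok (2 * 7) EX RL ⟨2 :: [3, 2, 3, 2, 3], [], 6, false⟩) (lall (memL L) [3, 2, 3, 2, 3]) = true := by decide +kernel

theorem cov2 : T.cover 2 [(sel (ones 56) ip2 1), (sel (ones 56) ip2 2), (sel (ones 56) ip2 3), (sel (ones 56) ip2 4), (sel (ones 56) ip2 5), (sel (ones 56) ip2 6), (sel (ones 56) ip2 7), 1] = true := by decide +kernel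

theorem tl2 : T.treeLt 6 2 = true := by decide +kernel

theorem rot3_1 : T.rot 3 [3] (sel (ones 56) ip3 1) = true := by decide +kernel

theorem rot3_1r : band (Rule.ok (2 * 7) EX RL ⟨3 :: [3], [], 21, false⟩) (lall (memL L) [3]) = true := by decide +kernel

theorem rot3_2 : T.rot 3 [1, 3, 1] (sel (ones 56) ip3 2) = true := by decide +kernel

theorem rot3_2r : band (Rule.ok (2 * 7) EX RL ⟨3 :: [1, 3, 1], [], 1, true⟩) (lall (memL L) [1, 3, 1]) = true := by decide +kernel

theorem rot3_3 : T.rot 3 [5, 3, 5] (sel (ones 56) ip3 3) = true := by decide +kernel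

theorem rot3_3r : band (Rule.ok (2 * 7) EX RL ⟨3 :: [5, 3, 5], [], 12, false⟩) (lall (memL L) [5, 3, 5]) = true := by decide +kernel

theorem rot3_4 : T.rot 3 [6, 3, 6] (sel (ones 56) ip3 4) = true := by decide +kernel

theorem rot3_4r : band (Rule.ok (2 * 7) EX RL ⟨3 :: [6, 3, 6], [], 13, false⟩) (lall (memL L) [6, 3, 6]) = true := by decide +kernel

theorem rot3_5 : T.rot 3 [2, 3, 2, 3, 2] (sel (ones 56) ip3 5) = true := by decide +kernel

theorem rot3_5r : band (Rule.ok (2 * 7) EX RL ⟨3 :: [2, 3, 2, 3, 2], [], 6, true⟩) (lall (memL L) [2, 3, 2, 3, 2]) = true := by decide +kernel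

theorem rot3_6 : T.rot 3 [4, 3, 4, 3, 4] (sel (ones 56) ip3 6) = true := by decide +kernel

theorem rot3_6r : band (Rule.ok (2 * 7) EX RL ⟨3 :: [4, 3, 4, 3, 4], [], 11, false⟩) (lall (memL L) [4, 3, 4, 3, 4]) = true := by decide +kernel

theorem rot3_7 : T.rot 3 [7, 3, 7, 3, 7] (sel (ones 56) ip3 7) = true := by decide +kernel

theorem rot3_7r : band (Rule.ok (2 * 7) EX RL ⟨3 :: [7, 3, 7, 3, 7], [], 14, false⟩) (lall (memL L) [7, 3, 7, 3, 7]) = true := by decide +kernel

theorem cov3 : T.cover 3 [(sel (ones 56) ip3 1), (sel (ones 56) ip3 2), (sel (ones 56) ip3 3), (sel (ones 56) ip3 4), (sel (ones 56) ip3 5), (sel (ones 56) ip3 6), (sel (ones 56) ip3 7), 1] = true := by decide +kernel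

theorem tl3 : T.treeLt 6 3 = true := by decide +kernel

theorem rot4_1 : T.rot 4 [4] (sel (ones 56) ip4 1) = true := by decide +kernel

theorem rot4_1r : band (Rule.ok (2 * 7) EX RL ⟨4 :: [4], [], 21, false⟩) (lall (memL L) [4]) = true := by decide +kernel

theorem rot4_2 : T.rot 4 [1, 4, 1] (sel (ones 56) ip4 2) = true := by decide +kernel

theorem rot4_2r : band (Rule.ok (2 * 7) EX RL ⟨4 :: [1, 4, 1], [], 2, true⟩) (lall (memL L) [1, 4, 1]) = true := by decide +kernel

theorem rot4_3 : T.rot 4 [2, 4, 2] (sel (ones 56) ip4 3) = true := by decide +kernel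

theorem rot4_3r : band (Rule.ok (2 * 7) EX RL ⟨4 :: [2, 4, 2], [], 7, true⟩) (lall (memL L) [2, 4, 2]) = true := by decide +kernel

theorem rot4_4 : T.rot 4 [6, 4, 6] (sel (ones 56) ip4 4) = true := by decide +kernel

theorem rot4_4r : band (Rule.ok (2 * 7) EX RL ⟨4 :: [6, 4, 6], [], 16, false⟩) (lall (memL L) [6, 4, 6]) = true := by decide +kernel

theorem rot4_5 : T.rot 4 [7, 4, 7] (sel (ones 56) ip4 5) = true := by decide +kernel

theorem rot4_5r : band (Rule.ok (2 * 7) EX RL ⟨4 :: [7, 4, 7], [], 17, false⟩) (lall (memL L) [7, 4, 7]) = true := by decide +kernel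

theorem rot4_6 : T.rot 4 [3, 4, 3, 4, 3] (sel (ones 56) ip4 6) = true := by decide +kernel

theorem rot4_6r : band (Rule.ok (2 * 7) EX RL ⟨4 :: [3, 4, 3, 4, 3], [], 11, true⟩) (lall (memL L) [3, 4, 3, 4, 3]) = true := by decide +kernel

theorem rot4_7 : T.rot 4 [5, 4, 5, 4, 5] (sel (ones 56) ip4 7) = true := by decide +kernel

theorem rot4_7r : band (Rule.ok (2 * 7) EX RL ⟨4 :: [5, 4, 5, 4, 5], [], 15, false⟩) (lall (memL L) [5, 4, 5, 4, 5]) = true := by decide +kernel

theorem cov4 : T.cover 4 [(sel (ones 56) ip4 1), (sel (ones 56) ip4 2), (sel (ones 56) ip4 3), (sel (ones 56) ip4 4), (sel (ones 56) ip4 5), (sel (ones 56) ip4 6), (sel (ones 56) ip4 7), 1] = true := by decide +kernel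

theorem tl4 : T.treeLt 6 4 = true := by decide +kernel

theorem rot5_1 : T.rot 5 [5] (sel (ones 56) ip5 1) = true := by decide +kernel

theorem rot5_1r : band (Rule.ok (2 * 7) EX RL ⟨5 :: [5], [], 21, false⟩) (lall (memL L) [5]) = true := by decide +kernel

theorem rot5_2 : T.rot 5 [1, 5, 1] (sel (ones 56) ip5 2) = true := by decide +kernel

theorem rot5_2r : band (Rule.ok (2 * 7) EX RL ⟨5 :: [1, 5, 1], [], 3, true⟩) (lall (memL L) [1, 5, 1]) = true := by decide +kernel

theorem rot5_3 : T.rot 5 [2, 5, 2] (sel (ones 56) ip5 3) = true := by decide +kernel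

theorem rot5_3r : band (Rule.ok (2 * 7) EX RL ⟨5 :: [2, 5, 2], [], 8, true⟩) (lall (memL L) [2, 5, 2]) = true := by decide +kernel

theorem rot5_4 : T.rot 5 [3, 5, 3] (sel (ones 56) ip5 4) = true := by decide +kernel

theorem rot5_4r : band (Rule.ok (2 * 7) EX RL ⟨5 :: [3, 5, 3], [], 12, true⟩) (lall (memL L) [3, 5, 3]) = true := by decide +kernel

theorem rot5_5 : T.rot 5 [7, 5, 7] (sel (ones 56) ip5 5) = true := by decide +kernel

theorem rot5_5r : band (Rule.ok (2 * 7) EX RL ⟨5 :: [7, 5, 7], [], 19, false⟩) (lall (memL L) [7, 5, 7]) = true := by decide +kernel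

theorem rot5_6 : T.rot 5 [4, 5, 4, 5, 4] (sel (ones 56) ip5 6) = true := by decide +kernel

theorem rot5_6r : band (Rule.ok (2 * 7) EX RL ⟨5 :: [4, 5, 4, 5, 4], [], 15, true⟩) (lall (memL L) [4, 5, 4, 5, 4]) = true := by decide +kernel

theorem rot5_7 : T.rot 5 [6, 5, 6, 5, 6] (sel (ones 56) ip5 7) = true := by decide +kernel

theorem rot5_7r : band (Rule.ok (2 * 7) EX RL ⟨5 :: [6, 5, 6, 5, 6], [], 18, false⟩) (lall (memL L) [6, 5, 6, 5, 6]) = true := by decide +kernel

theorem cov5 : T.cover 5 [(sel (ones 56) ip5 1), (sel (ones 56) ip5 2), (sel (ones 56) ip5 3), (sel (ones 56) ip5 4), (sel (ones 56) ip5 5), (sel (ones 56) ip5 6), (sel (ones 56) ip5 7), 1] = true := by decide +kernel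

theorem tl5 : T.treeLt 6 5 = true := by decide +kernel

theorem rot6_1 : T.rot 6 [6] (sel (ones 56) ip6 1) = true := by decide +kernel

theorem rot6_1r : band (Rule.ok (2 * 7) EX RL ⟨6 :: [6], [], 21, false⟩) (lall (memL L) [6]) = true := by decide +kernel

theorem rot6_2 : T.rot 6 [1, 6, 1] (sel (ones 56) ip6 2) = true := by decide +kernel

theorem rot6_2r : band (Rule.ok (2 * 7) EX RL ⟨6 :: [1, 6, 1], [], 4, true⟩) (lall (memL L) [1, 6, 1]) = true := by decide +kernel

theorem rot6_3 : T.rot 6 [2, 6, 2] (sel (ones 56) ip6 3) = true := by decide +kernel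

theorem rot6_3r : band (Rule.ok (2 * 7) EX RL ⟨6 :: [2, 6, 2], [], 9, true⟩) (lall (memL L) [2, 6, 2]) = true := by decide +kernel

theorem rot6_4 : T.rot 6 [3, 6, 3] (sel (ones 56) ip6 4) = true := by decide +kernel

theorem rot6_4r : band (Rule.ok (2 * 7) EX RL ⟨6 :: [3, 6, 3], [], 13, true⟩) (lall (memL L) [3, 6, 3]) = true := by decide +kernel

theorem rot6_5 : T.rot 6 [4, 6, 4] (sel (ones 56) ip6 5) = true := by decide +kernel

theorem rot6_5r : band (Rule.ok (2 * 7) EX RL ⟨6 :: [4, 6, 4], [], 16, true⟩) (lall (memL L) [4, 6, 4]) = true := by decide +kernel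

theorem rot6_6 : T.rot 6 [7, 6, 7] (sel (ones 56) ip6 6) = true := by decide +kernel

theorem rot6_6r : band (Rule.ok (2 * 7) EX RL ⟨6 :: [7, 6, 7], [], 20, false⟩) (lall (memL L) [7, 6, 7]) = true := by decide +kernel

theorem rot6_7 : T.rot 6 [5, 6, 5, 6, 5] (sel (ones 56) ip6 7) = true := by decide +kernel

theorem rot6_7r : band (Rule.ok (2 * 7) EX RL ⟨6 :: [5, 6, 5, 6, 5], [], 18, true⟩) (lall (memL L) [5, 6, 5, 6, 5]) = true := by decide +kernel

theorem cov6 : T.cover 6 [(sel (ones 56) ip6 1), (sel (ones 56) ip6 2), (sel (ones 56) ip6 3), (sel (ones 56) ip6 4), (sel (ones 56) ip6 5), (sel (ones 56) ip6 6), (sel (ones 56) ip6 7)] = true := by decide +kernel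

theorem tl6 : T.treeLt 6 6 = true := by decide +kernel

theorem rot7_1 : T.rot 7 [7] (sel (ones 56) ip7 1) = true := by decide +kernel

theorem rot7_1r : band (Rule.ok (2 * 7) EX RL ⟨7 :: [7], [], 21, false⟩) (lall (memL L) [7]) = true := by decide +kernel

theorem rot7_2 : T.rot 7 [1, 7, 1] (sel (ones 56) ip7 2) = true := by decide +kernel

theorem rot7_2r : band (Rule.ok (2 * 7) EX RL ⟨7 :: [1, 7, 1], [], 5, true⟩) (lall (memL L) [1, 7, 1]) = true := by decide +kernel

theorem rot7_3 : T.rot 7 [2, 7, 2] (sel (ones 56) ip7 3) = true := by decide +kernel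

theorem rot7_3r : band (Rule.ok (2 * 7) EX RL ⟨7 :: [2, 7, 2], [], 10, true⟩) (lall (memL L) [2, 7, 2]) = true := by decide +kernel

theorem rot7_4 : T.rot 7 [4, 7, 4] (sel (ones 56) ip7 4) = true := by decide +kernel

theorem rot7_4r : band (Rule.ok (2 * 7) EX RL ⟨7 :: [4, 7, 4], [], 17, true⟩) (lall (memL L) [4, 7, 4]) = true := by decide +kernel

theorem rot7_5 : T.rot 7 [5, 7, 5] (sel (ones 56) ip7 5) = true := by decide +kernel

theorem rot7_5r : band (Rule.ok (2 * 7) EX RL ⟨7 :: [5, 7, 5], [], 19, true⟩) (lall (memL L) [5, 7, 5]) = true := by decide +kernel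

theorem rot7_6 : T.rot 7 [6, 7, 6] (sel (ones 56) ip7 6) = true := by decide +kernel

theorem rot7_6r : band (Rule.ok (2 * 7) EX RL ⟨7 :: [6, 7, 6], [], 20, true⟩) (lall (memL L) [6, 7, 6]) = true := by decide +kernel

theorem rot7_7 : T.rot 7 [3, 7, 3, 7, 3] (sel (ones 56) ip7 7) = true := by decide +kernel

theorem rot7_7r : band (Rule.ok (2 * 7) EX RL ⟨7 :: [3, 7, 3, 7, 3], [], 14, true⟩) (lall (memL L) [3, 7, 3, 7, 3]) = true := by decide +kernel

theorem cov7 : T.cover 7 [(sel (ones 56) ip7 1), (sel (ones 56) ip7 2), (sel (ones 56) ip7 3), (sel (ones 56) ip7 4), (sel (ones 56) ip7 5), (sel (ones 56) ip7 6), (sel (ones 56) ip7 7), 1] = true := by decide +kernel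

theorem tl7 : T.treeLt 6 7 = true := by decide +kernel

end Cfsg.Agent.Spor.Fi56
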