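import Cfsg.Agent.Spor.Chk

set_option autoImplicit false
set_option maxRecDepth 100000000
set_option Elab.async false
noncomputable section

namespace Cfsg.Agent.Spor.Fi56

def m0_0 : Nat := nat_lit 0x2
def m0_1 : Nat := nat_lit 0x400000003
def m0_2 : Nat := nat_lit 0x400020200
def m0_3 : Nat := nat_lit 0x1011000013020
def m0_4 : Nat := nat_lit 0x544000010401
def m0_5 : Nat := nat_lit 0x11000010000
def m0_6 : Nat := nat_lit 0x20200
def m0_7 : Nat := nat_lit 0x400000003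
def m0_8 : Nat := nat_lit 0x2
def n0 : Net := Net.cons 16 m0_0 (Net.cons 8 m0_1 (Net.cons 4 m0_2 (Net.cons 2 m0_3 (Net.cons 1 m0_4 (Net.cons 2 m0_5 (Net.cons 4 m0_6 (Net.cons 8 m0_7 (Net.cons 16 m0_8 (Net.nil)))))))))

def m1_0 : Nat := nat_lit 0x800000000001
def m1_1 : Nat := nat_lit 0x2000100010041
def m1_2 : Nat := nat_lit 0x200010700030304
def m1_3 : Nat := nat_lit 0x2000000000001201
def m1_4 : Nat := nat_lit 0x4011500110010
def m1_5 : Nat := nat_lit 0x200010400000304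
def m1_6 : Nat := nat_lit 0x2000100010000
def m1_7 : Nat := nat_lit 0x800000000001
def n1 : Net := Net.cons 16 m1_0 (Net.cons 8 m1_1 (Net.cons 4 m1_2 (Net.cons 2 m1_3 (Net.cons 1 m1_4 (Net.cons 4 m1_5 (Net.cons 8 m1_6 (Net.cons 16 m1_7 (Net.nil))))))))

def m2_0 : Nat := nat_lit 0x2
def m2_1 : Nat := nat_lit 0x2
def m2_2 : Nat := nat_lit 0x20000
def m2_3 : Nat := nat_lit 0x1000202000001
def m2_4 : Nat := nat_lit 0x1300301110301
def m2_5 : Nat := nat_lit 0x4000500040004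
def m2_6 : Nat := nat_lit 0x1000000010001
def m2_7 : Nat := nat_lit 0x1000200000001
def m2_8 : Nat := nat_lit 0x20000
def m2_9 : Nat := nat_lit 0x2
def m2_10 : Nat := nat_lit 0x2
def n2 : Net := Net.cons 32 m2_0 (Net.cons 16 m2_1 (Net.cons 8 m2_2 (Net.cons 4 m2_3 (Net.cons 2 m2_4 (Net.cons 1 m2_5 (Net.cons 2 m2_6 (Net.cons 4 m2_7 (Net.cons 8 m2_8 (Net.cons 16 m2_9 (Net.cons 32 m2_10 (Net.nil)))))))))))

def m3_0 : Nat := nat_lit 0x1
def m3_1 : Nat := nat_lit 0x1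
def m3_2 : Nat := nat_lit 0x200400001
def m3_3 : Nat := nat_lit 0x30203010600
def m3_4 : Nat := nat_lit 0x20013101000
def m3_5 : Nat := nat_lit 0x10000010000504
def m3_6 : Nat := nat_lit 0x10000000
def m3_7 : Nat := nat_lit 0x20003010600
def m3_8 : Nat := nat_lit 0x200400001
def m3_9 : Nat := nat_lit 0x1
def m3_10 : Nat := nat_lit 0x1
def n3 : Net := Net.cons 32 m3_0 (Net.cons 16 m3_1 (Net.cons 8 m3_2 (Net.cons 4 m3_3 (Net.cons 2 m3_4 (Net.cons 1 m3_5 (Net.cons 2 m3_6 (Net.cons 4 m3_7 (Net.cons 8 m3_8 (Net.cons 16 m3_9 (Net.cons 32 m3_10 (Net.nil)))))))))))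

def m4_0 : Nat := nat_lit 0x4000
def m4_1 : Nat := nat_lit 0x4000480000
def m4_2 : Nat := nat_lit 0x102040b0000
def m4_3 : Nat := nat_lit 0x10100310101001
def m4_4 : Nat := nat_lit 0x10040044104001
def m4_5 : Nat := nat_lit 0x10000010101001
def m4_6 : Nat := nat_lit 0x10204020000
def m4_7 : Nat := nat_lit 0x4000480000
def m4_8 : Nat := nat_lit 0x4000
def n4 : Net := Net.cons 16 m4_0 (Net.cons 8 m4_1 (Net.cons 4 m4_2 (Net.cons 2 m4_3 (Net.cons 1 m4_4 (Net.cons 2 m4_5 (Net.cons 4 m4_6 (Net.cons 8 m4_7 (Net.cons 16 m4_8 (Net.nil)))))))))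

def m5_0 : Nat := nat_lit 0x20000000
def m5_1 : Nat := nat_lit 0x100000004
def m5_2 : Nat := nat_lit 0x1000400050004
def m5_3 : Nat := nat_lit 0x100000505070400
def m5_4 : Nat := nat_lit 0x300000000
def m5_5 : Nat := nat_lit 0x1040004005004001
def m5_6 : Nat := nat_lit 0x100000505000400
def m5_7 : Nat := nat_lit 0x1000400050004
def m5_8 : Nat := nat_lit 0x100000004
def m5_9 : Nat := nat_lit 0x20000000
def n5 : Net := Net.cons 32 m5_0 (Net.cons 16 m5_1 (Net.cons 8 m5_2 (Net.cons 4 m5_3 (Net.cons 2 m5_4 (Net.cons 1 m5_5 (Net.cons 4 m5_6 (Net.cons 8 m5_7 (Net.cons 16 m5_8 (Net.cons 32 m5_9 (Net.nil))))))))))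

def m6_0 : Nat := nat_lit 0x5
def m6_1 : Nat := nat_lit 0x500000005
def m6_2 : Nat := nat_lit 0x500450003
def m6_3 : Nat := nat_lit 0x4000f0c0002
def m6_4 : Nat := nat_lit 0x2010000000030
def m6_5 : Nat := nat_lit 0x400044000001
def m6_6 : Nat := nat_lit 0x40000000002
def m6_7 : Nat := nat_lit 0x500450003
def m6_8 : Nat := nat_lit 0x500000005
def m6_9 : Nat := nat_lit 0x5
def n6 : Net := Net.cons 32 m6_0 (Net.cons 16 m6_1 (Net.cons 8 m6_2 (Net.cons 4 m6_3 (Net.cons 2 m6_4 (Net.cons 1 m6_5 (Net.cons 4 m6_6 (Net.cons 8 m6_7 (Net.cons 16 m6_8 (Net.cons 32 m6_9 (Net.nil))))))))))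

def cl1 : Nat := nat_lit 0xffffffffffffff
def tt1 : Nat := nat_lit 0xc8000000080
def tm1_0 : Nat := nat_lit 0x52cca38e1aac94
def tm1_1 : Nat := nat_lit 0x98f02c0fe42f46
def tm1_2 : Nat := nat_lit 0xe5002ff026f058
def tm1_3 : Nat := nat_lit 0x2fffd90000
def tm1_4 : Nat := nat_lit 0xfa020000000000
def ip1_0 : Nat := nat_lit 0xaa3e801335708a
def ip1_1 : Nat := nat_lit 0x3ff22f7fd97f58
def ip1_2 : Nat := nat_lit 0xcf0005e9b7a346
def ip1 : List Nat := [ip1_0, ip1_1, ip1_2]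
def l1 : Let := ⟨0, false, cl1, tt1, [tm1_0, tm1_1, tm1_2, tm1_3, tm1_4]⟩

def cl2 : Nat := nat_lit 0xffffffffffffff
def tt2 : Nat := nat_lit 0x2015000002020
def tm2_0 : Nat := nat_lit 0x5325518e1e3224
def tm2_1 : Nat := nat_lit 0x9c16840ed357c6
def tm2_2 : Nat := nat_lit 0xe00485f1201688
def tm2_3 : Nat := nat_lit 0x485fecc8000
def tm2_4 : Nat := nat_lit 0xf1680000000000
def ip2_0 : Nat := nat_lit 0x5f4155ecdaa564
def ip2_1 : Nat := nat_lit 0x707e80965bd68c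
def ip2_2 : Nat := nat_lit 0x9d6c856dec07c2
def ip2 : List Nat := [ip2_0, ip2_1, ip2_2]
def l2 : Let := ⟨1, false, cl2, tt2, [tm2_0, tm2_1, tm2_2, tm2_3, tm2_4]⟩

def cl3 : Nat := nat_lit 0xffffffffffffff
def tt3 : Nat := nat_lit 0x10c02a00080c10
def tm3_0 : Nat := nat_lit 0x51c73a8f0e1c74
def tm3_1 : Nat := nat_lit 0x8607c00ff01086
def tm3_2 : Nat := nat_lit 0xe007d0d00010e0
def tm3_3 : Nat := nat_lit 0x7d0daa6e000
def tm3_4 : Nat := nat_lit 0xe7080000000000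
def ip3_0 : Nat := nat_lit 0x57c17ac8daac74
def ip3_1 : Nat := nat_lit 0x650e80dad2d0c4
def ip3_2 : Nat := nat_lit 0xa703505fa47062
def ip3 : List Nat := [ip3_0, ip3_1, ip3_2]
def l3 : Let := ⟨2, false, cl3, tt3, [tm3_0, tm3_1, tm3_2, tm3_3, tm3_4]⟩

def cl4 : Nat := nat_lit 0xffffffffffffff
def tt4 : Nat := nat_lit 0x20320002015008
def tm4_0 : Nat := nat_lit 0x69b619c30f5268
def tm4_1 : Nat := nat_lit 0x8e04c57db00382
def tm4_2 : Nat := nat_lit 0xc004de800003f0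
def tm4_3 : Nat := nat_lit 0x4de81be8000
def tm4_4 : Nat := nat_lit 0xcfc00000000000
def ip4_0 : Nat := nat_lit 0x6f3255ea93d368
def ip4_1 : Nat := nat_lit 0x42c4de801a80b0
def ip4_2 : Nat := nat_lit 0xcdc00ffdbe8352
def ip4 : List Nat := [ip4_0, ip4_1, ip4_2]
def l4 : Let := ⟨3, false, cl4, tt4, [tm4_0, tm4_1, tm4_2, tm4_3, tm4_4]⟩

def cl5 : Nat := nat_lit 0xffffffffffffff
def tt5 : Nat := nat_lit 0x40000080528004
def tm5_0 : Nat := nat_lit 0x499c38e156a66c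
def tm5_1 : Nat := nat_lit 0x8e12ad2ba00788
def tm5_2 : Nat := nat_lit 0x901fd2440007f0
def tm5_3 : Nat := nat_lit 0x129267242800
def tm5_4 : Nat := nat_lit 0x9fe00000000000
def ip5_0 : Nat := nat_lit 0xcf0155cdf6a364
def ip5_1 : Nat := nat_lit 0x823fd0672420a8
def ip5_2 : Nat := nat_lit 0x9df22f6fa40f58
def ip5 : List Nat := [ip5_0, ip5_1, ip5_2]
def l5 : Let := ⟨4, false, cl5, tt5, [tm5_0, tm5_1, tm5_2, tm5_3, tm5_4]⟩

def cl6 : Nat := nat_lit 0xffffffffffffff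
def tt6 : Nat := nat_lit 0x80000015240002
def tm6_0 : Nat := nat_lit 0xa99caa952c666a
def tm6_1 : Nat := nat_lit 0xe1b0be809078c
def tm6_2 : Nat := nat_lit 0x301ff4008007f0
def tm6_3 : Nat := nat_lit 0x1b2480897800
def tm6_4 : Nat := nat_lit 0x3fe00000000000
def ip6_0 : Nat := nat_lit 0xa23b749525702e
def ip6_1 : Nat := nat_lit 0xf0df5e88023e4
def ip6_2 : Nat := nat_lit 0x3dfb2fe8895f5c
def ip6 : List Nat := [ip6_0, ip6_1, ip6_2]
def l6 : Let := ⟨5, false, cl6, tt6, [tm6_0, tm6_1, tm6_2, tm6_3, tm6_4]⟩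

def cl7 : Nat := nat_lit 0xffffffffffffff
def tt7 : Nat := nat_lit 0xd000568800340
def tm7_0 : Nat := nat_lit 0x5d271d69871b44
def tm7_1 : Nat := nat_lit 0x9007e001301c06
def tm7_2 : Nat := nat_lit 0xe007fa00001c08
def tm7_3 : Nat := nat_lit 0x7fa0137e000
def tm7_4 : Nat := nat_lit 0xf0380000000000
def ip7_0 : Nat := nat_lit 0x5d017f6892af44
def ip7_1 : Nat := nat_lit 0x900dfa01242c02
def ip7_2 : Nat := nat_lit 0xf0322a0137dc0e
def ip7 : List Nat := [ip7_0, ip7_1, ip7_2]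
def l7 : Let := ⟨6, false, cl7, tt7, [tm7_0, tm7_1, tm7_2, tm7_3, tm7_4]⟩

def NT : List Net := [n0, n1, n2, n3, n4, n5, n6]
def LT : List Let := [⟨0, false, 0, 0, []⟩, l1, l2, l3, l4, l5, l6, l7]
def T : Tab := ⟨NT, LT⟩
def EX : List (List Nat) := [[], [0], [2], [4], [6], [8], [10], [12]]
def RL : List (List Nat) := [[0, 2, 0, 2, 0, 2], [0, 4, 0, 4], [0, 6, 0, 6], [0, 8, 0, 8], [0, 10, 0, 10], [0, 12, 0, 12], [2, 4, 2, 4, 2, 4], [2, 6, 2, 6], [2, 8, 2, 8], [2, 10, 2, 10], [2, 12, 2, 12], [4, 6, 4, 6, 4, 6], [4, 8, 4, 8], [4, 10, 4, 10], [4, 12, 4, 12, 4, 12], [6, 8, 6, 8, 6, 8], [6, 10, 6, 10], [6, 12, 6, 12], [8, 10, 8, 10, 8, 10], [8, 12, 8, 12], [10, 12, 10, 12]]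
def XL : List (List Nat) := []
def BW : List (List Nat) := [[0], [2], [4], [6], [8], [12]]
def IV : Nat := 0x706050403020100
def L : List Nat := [1, 2, 3, 4, 5, 6, 7]
def gs : List Nat := [1, 2, 3, 4, 5, 6, 7]
def base : List Nat := [1, 2, 3, 4, 5, 7]

end Cfsg.Agent.Spor.Fi56
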